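import Mathlib

set_option autoImplicit false

/-!
Poisson summation for Gaussians attached to positive definite matrices on `Fin d → ℝ`.
-/

open MeasureTheory Matrix
open scoped Real

namespace Cfsg.Agent.Theta

variable {d : ℕ}

lemma summable_prod_pi {f : ℤ → ℝ} (h0 : ∀ n, 0 ≤ f n) (hf : Summable f) :
    ∀ k : ℕ, Summable fun n : Fin k → ℤ => ∏ i, f (n i) := by
  intro k
  induction k with
  | zero => exact Summable.of_finite
  | succ k ih =>
    have h : Summable fun p : ℤ × (Fin k → ℤ) => f p.1 * (fun n : Fin k → ℤ => ∏ i, f (n i)) p.2 :=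
      Summable.mul_of_nonneg (f := f) (g := fun n : Fin k → ℤ => ∏ i, f (n i)) hf ih
        (fun n => h0 n) (fun n => Finset.prod_nonneg fun i _ => h0 _)
    let e : ℤ × (Fin k → ℤ) ≃ (Fin (k + 1) → ℤ) :=
      { toFun := fun p => Fin.cons p.1 p.2
        invFun := fun n => (n 0, fun i => n i.succ)
        left_inv := fun p => by simp
        right_inv := fun n => by
          funext i
          refine Fin.cases ?_ (fun j => ?_) i <;> simp }
    refine (e.summable_iff).1 (h.congr fun p => ?_)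
    show f p.1 * _ = ∏ i, f ((Fin.cons p.1 p.2 : Fin (k + 1) → ℤ) i)
    simp [Fin.prod_univ_succ]

lemma summable_exp_sq {c : ℝ} (hc : 0 < c) : Summable fun n : ℤ => Real.exp (-c * (n : ℝ) ^ 2) := by
  have h : Summable fun i : ℕ => Real.exp (-c * ((i : ℝ) ^ 2)) :=
    Real.summable_exp_nat_mul_of_ge (c := -c) (by linarith) (f := fun i => (i : ℝ) ^ 2)
      (fun i => by exact_mod_cast Nat.le_self_pow two_ne_zero i)
  refine Summable.of_nat_of_neg (h.congr fun i => by simp) (h.congr fun i => by simp)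

lemma summable_exp_sumSq {c : ℝ} (hc : 0 < c) :
    Summable fun n : Fin d → ℤ => Real.exp (-c * ∑ i, (n i : ℝ) ^ 2) := by
  refine (summable_prod_pi (fun n => (Real.exp_pos _).le) (summable_exp_sq hc) d).congr fun n => ?_
  rw [Finset.mul_sum, Real.exp_sum]

/-- The quadratic form of a real matrix. -/
def qf (A : Matrix (Fin d) (Fin d) ℝ) (x : Fin d → ℝ) : ℝ := x ⬝ᵥ (A *ᵥ x)

lemma qf_smul (t : ℝ) (A : Matrix (Fin d) (Fin d) ℝ) (x : Fin d → ℝ) :
    qf (t • A) x = t * qf A x := by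
  simp [qf, Matrix.smul_mulVec, dotProduct_smul, smul_eq_mul]

lemma qf_continuous (A : Matrix (Fin d) (Fin d) ℝ) : Continuous (qf A) := by
  unfold qf dotProduct Matrix.mulVec dotProduct
  fun_prop

/-- Orthogonal diagonalisation of a positive definite matrix. -/
lemma exists_diag {A : Matrix (Fin d) (Fin d) ℝ} (hA : A.PosDef) :
    ∃ (U : Matrix (Fin d) (Fin d) ℝ) (ev : Fin d → ℝ), Uᵀ * U = 1 ∧ U * Uᵀ = 1 ∧
      (∀ i, 0 < ev i) ∧ A = U * diagonal ev * Uᵀ := by
  refine ⟨(hA.1.eigenvectorUnitary : Matrix (Fin d) (Fin d) ℝ), hA.1.eigenvalues, ?_, ?_,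
    hA.eigenvalues_pos, ?_⟩
  · simpa [Matrix.star_eq_conjTranspose] using
      Matrix.UnitaryGroup.star_mul_self hA.1.eigenvectorUnitary
  · simpa [Matrix.star_eq_conjTranspose] using
      (Matrix.mem_unitaryGroup_iff.1 hA.1.eigenvectorUnitary.2)
  · conv_lhs => rw [hA.1.spectral_theorem]
    simp [Unitary.conjStarAlgAut_apply, Matrix.star_eq_conjTranspose, Function.comp_def]

lemma qf_diag (U : Matrix (Fin d) (Fin d) ℝ) (ev : Fin d → ℝ) (x : Fin d → ℝ) :
    qf (U * diagonal ev * Uᵀ) x = ∑ i, ev i * ((Uᵀ *ᵥ x) i) ^ 2 := by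
  unfold qf
  rw [← Matrix.mulVec_mulVec, ← Matrix.mulVec_mulVec, Matrix.dotProduct_mulVec,
    ← Matrix.mulVec_transpose]
  simp only [dotProduct, mulVec_diagonal]
  exact Finset.sum_congr rfl fun i _ => by ring

lemma sumSq_orth {U : Matrix (Fin d) (Fin d) ℝ} (hU : U * Uᵀ = 1) (x : Fin d → ℝ) :
    ∑ i, ((Uᵀ *ᵥ x) i) ^ 2 = ∑ i, x i ^ 2 := by
  have h : qf (U * diagonal (fun _ => 1) * Uᵀ) x = qf 1 x := by
    rw [diagonal_one, Matrix.mul_one, hU]
  rw [qf_diag] at h
  simpa [qf, dotProduct, sq] using h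

lemma exists_lower {A : Matrix (Fin d) (Fin d) ℝ} (hA : A.PosDef) :
    ∃ c : ℝ, 0 < c ∧ ∀ x, c * ∑ i, x i ^ 2 ≤ qf A x := by
  obtain ⟨U, ev, -, hU, hpos, hAe⟩ := exists_diag hA
  rcases isEmpty_or_nonempty (Fin d) with h | h
  · exact ⟨1, one_pos, fun x => by simp [qf, dotProduct]⟩
  obtain ⟨i₀, -, hmin⟩ := Finset.exists_min_image Finset.univ ev Finset.univ_nonempty
  refine ⟨ev i₀, hpos i₀, fun x => ?_⟩
  rw [← sumSq_orth hU x, hAe, qf_diag, Finset.mul_sum]
  exact Finset.sum_le_sum fun i _ =>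
    mul_le_mul_of_nonneg_right (hmin i (Finset.mem_univ i)) (sq_nonneg _)

/-- The real theta sum. -/
noncomputable def th (A : Matrix (Fin d) (Fin d) ℝ) : ℝ :=
  ∑' n : Fin d → ℤ, Real.exp (-π * qf A (fun i => (n i : ℝ)))

/-- The Gaussian, as a complex valued function. -/
noncomputable def gau (A : Matrix (Fin d) (Fin d) ℝ) (x : Fin d → ℝ) : ℂ :=
  ((Real.exp (-π * qf A x) : ℝ) : ℂ)

/-- The character `x ↦ exp (-2πi m·x)`. -/
noncomputable def chr (m : Fin d → ℤ) (x : Fin d → ℝ) : ℂ :=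
  Complex.exp (∑ i, -(2 * π * Complex.I * (m i : ℂ)) * (x i : ℂ))

lemma norm_chr (m : Fin d → ℤ) (x : Fin d → ℝ) : ‖chr m x‖ = 1 := by
  rw [chr, Complex.norm_exp]
  simp [Complex.re_sum]

lemma chr_add_int (m n : Fin d → ℤ) (x : Fin d → ℝ) :
    chr m (fun i => x i + (n i : ℝ)) = chr m x := by
  unfold chr
  rw [Complex.exp_eq_exp_iff_exists_int]
  refine ⟨-∑ i, m i * n i, ?_⟩
  push_cast
  rw [neg_mul, Finset.sum_mul, ← Finset.sum_neg_distrib, ← Finset.sum_add_distrib]
  exact Finset.sum_congr rfl fun i _ => by ring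

lemma chr_continuous (m : Fin d → ℤ) : Continuous (chr m) := by
  unfold chr; fun_prop

lemma gau_continuous (A : Matrix (Fin d) (Fin d) ℝ) : Continuous (gau A) := by
  have := qf_continuous A
  unfold gau; fun_prop

lemma norm_gau (A : Matrix (Fin d) (Fin d) ℝ) (x : Fin d → ℝ) :
    ‖gau A x‖ = Real.exp (-π * qf A x) := by
  rw [gau, Complex.norm_real, Real.norm_of_nonneg (Real.exp_pos _).le]

lemma gau_shift_bound {A : Matrix (Fin d) (Fin d) ℝ} {c : ℝ} (hc : 0 < c)
    (hlow : ∀ x, c * ∑ i, x i ^ 2 ≤ qf A x) (R : ℝ) (x : Fin d → ℝ) (hx : ∀ i, |x i| ≤ R)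
    (n : Fin d → ℤ) :
    ‖gau A (fun i => x i + (n i : ℝ))‖ ≤
      Real.exp (π * c * (d * R ^ 2)) * Real.exp (-(π * c / 2) * ∑ i, (n i : ℝ) ^ 2) := by
  rw [norm_gau, ← Real.exp_add]
  refine Real.exp_le_exp.2 ?_
  have h1 := hlow (fun i => x i + (n i : ℝ))
  have h2 : (∑ i, ((n i : ℝ) ^ 2 / 2 - R ^ 2)) ≤ ∑ i, (x i + (n i : ℝ)) ^ 2 := by
    refine Finset.sum_le_sum fun i _ => ?_
    have : x i ^ 2 ≤ R ^ 2 := by
      rw [← sq_abs]; exact pow_le_pow_left₀ (abs_nonneg _) (hx i) 2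
    nlinarith [sq_nonneg (2 * x i + (n i : ℝ))]
  rw [Finset.sum_sub_distrib, ← Finset.sum_div] at h2
  simp only [Finset.sum_const, Finset.card_univ, Fintype.card_fin, nsmul_eq_mul] at h2
  have h3 : c * ((∑ i, (n i : ℝ) ^ 2) / 2 - d * R ^ 2) ≤ qf A (fun i => x i + (n i : ℝ)) :=
    (mul_le_mul_of_nonneg_left h2 hc.le).trans h1
  nlinarith [Real.pi_pos]

lemma integrable_chr_gau {A : Matrix (Fin d) (Fin d) ℝ} (hA : A.PosDef) (m : Fin d → ℤ) :
    Integrable fun x => chr m x * gau A x := by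
  obtain ⟨c, hc, hlow⟩ := exists_lower hA
  have h := GaussianFourier.integrable_cexp_neg_sum_mul_add (ι := Fin d)
    (b := fun _ => ((π * c : ℝ) : ℂ)) (fun _ => by simpa using mul_pos Real.pi_pos hc)
    (fun _ => 0)
  refine h.norm.mono' ((chr_continuous m).mul (gau_continuous A)).aestronglyMeasurable
    (Filter.Eventually.of_forall fun x => ?_)
  rw [norm_mul, norm_chr, one_mul, norm_gau, Complex.norm_exp]
  refine Real.exp_le_exp.2 ?_
  have := mul_le_mul_of_nonneg_left (hlow x) Real.pi_pos.le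
  simp [Complex.re_sum, Complex.mul_re, ← Complex.ofReal_pow, ← Finset.mul_sum] at *
  nlinarith

lemma integral_chr_gau {A : Matrix (Fin d) (Fin d) ℝ} (hA : A.PosDef) (m : Fin d → ℤ) :
    ∫ x, chr m x * gau A x =
      (((√A.det)⁻¹ * Real.exp (-π * qf A⁻¹ (fun i => (m i : ℝ))) : ℝ) : ℂ) := by
  obtain ⟨U, ev, hU', hU, hpos, hAe⟩ := exists_diag hA
  set w : Fin d → ℝ := Uᵀ *ᵥ (fun i => (m i : ℝ)) with hw
  have hdetU : U.det * U.det = 1 := by
    have := congrArg Matrix.det hU
    rwa [det_mul, det_transpose, det_one] at this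
  have hne : U.det ≠ 0 := by intro h; rw [h] at hdetU; simp at hdetU
  have habs : |U.det⁻¹| = 1 := by
    rcases mul_self_eq_one_iff.1 hdetU with h | h <;> simp [h]
  have hmap : Measure.map (Matrix.toLin' U) (volume : Measure (Fin d → ℝ)) = volume := by
    rw [Real.map_matrix_volume_pi_eq_smul_volume_pi hne, habs]; simp
  have hcont : Continuous (Matrix.toLin' U) := LinearMap.continuous_on_pi _
  have hsub : ∫ x, chr m x * gau A x = ∫ y, chr m (U *ᵥ y) * gau A (U *ᵥ y) := by
    conv_lhs => rw [← hmap]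
    rw [integral_map hcont.aemeasurable (f := fun x => chr m x * gau A x)
      (((chr_continuous m).mul (gau_continuous A)).aestronglyMeasurable)]
    simp [Matrix.toLin'_apply]
  have hpt : ∀ y : Fin d → ℝ, chr m (U *ᵥ y) * gau A (U *ᵥ y) =
      Complex.exp (-∑ i, ((π * ev i : ℝ) : ℂ) * (y i : ℂ) ^ 2
        + ∑ i, (-(2 * π * Complex.I * (w i : ℂ))) * (y i : ℂ)) := by
    intro y
    have h1 : qf A (U *ᵥ y) = ∑ i, ev i * y i ^ 2 := by
      rw [hAe, qf_diag, Matrix.mulVec_mulVec, hU', Matrix.one_mulVec]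
    have h2 : ∑ i, (m i : ℝ) * (U *ᵥ y) i = ∑ i, w i * y i := by
      show (fun i => (m i : ℝ)) ⬝ᵥ (U *ᵥ y) = w ⬝ᵥ y
      rw [hw, Matrix.dotProduct_mulVec, Matrix.mulVec_transpose]
    have h2' : ∑ i, (m i : ℂ) * (((U *ᵥ y) i : ℝ) : ℂ) = ∑ i, (w i : ℂ) * (y i : ℂ) := by
      exact_mod_cast congrArg ((↑) : ℝ → ℂ) h2
    rw [chr, gau, h1, Complex.ofReal_exp, ← Complex.exp_add]
    congr 1
    have e1 : ∀ i, -(2 * (π : ℂ) * Complex.I * (m i : ℂ)) * (((U *ᵥ y) i : ℝ) : ℂ) =
        (-(2 * (π : ℂ) * Complex.I)) * ((m i : ℂ) * (((U *ᵥ y) i : ℝ) : ℂ)) := fun i => by ring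
    simp only [e1, ← Finset.mul_sum, h2']
    push_cast
    rw [Finset.mul_sum, Finset.mul_sum, ← Finset.sum_neg_distrib, add_comm]
    congr 1 <;> refine Finset.sum_congr rfl fun i _ => by ring
  have hb : ∀ i, 0 < (((π * ev i : ℝ) : ℂ)).re := fun i => by
    simpa using mul_pos Real.pi_pos (hpos i)
  rw [hsub, integral_congr_ae (Filter.Eventually.of_forall hpt),
    GaussianFourier.integral_cexp_neg_sum_mul_add hb]
  have hfac : ∀ i, ((π : ℂ) / ((π * ev i : ℝ) : ℂ)) ^ (1 / 2 : ℂ) *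
      Complex.exp ((-(2 * π * Complex.I * (w i : ℂ))) ^ 2 / (4 * ((π * ev i : ℝ) : ℂ))) =
      (((√(ev i))⁻¹ * Real.exp (-π * ((ev i)⁻¹ * w i ^ 2)) : ℝ) : ℂ) := by
    intro i
    have hp : (π : ℂ) ≠ 0 := Complex.ofReal_ne_zero.2 Real.pi_pos.ne'
    have he : ((ev i : ℝ) : ℂ) ≠ 0 := Complex.ofReal_ne_zero.2 (hpos i).ne'
    rw [Complex.ofReal_mul, Complex.ofReal_mul, Complex.ofReal_exp]
    congr 1
    · rw [show (π : ℂ) / ((π : ℂ) * (ev i : ℂ)) = (((ev i)⁻¹ : ℝ) : ℂ) by
        push_cast; field_simp]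
      rw [show (1 / 2 : ℂ) = ((1 / 2 : ℝ) : ℂ) by norm_num,
        ← Complex.ofReal_cpow (inv_nonneg.2 (hpos i).le), ← Real.sqrt_eq_rpow, Real.sqrt_inv]
    · congr 1
      push_cast
      field_simp
      ring_nf
      simp [Complex.I_sq]
  simp only [hfac, ← Complex.ofReal_prod]
  norm_cast
  rw [Finset.prod_mul_distrib, ← Real.exp_sum]
  have hdet : A.det = ∏ i, ev i := by
    rw [hAe, det_mul, det_mul, det_transpose, det_diagonal]
    rw [mul_comm U.det, mul_assoc, hdetU, mul_one]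
  have hinv : A⁻¹ = U * diagonal (fun i => (ev i)⁻¹) * Uᵀ := by
    refine Matrix.inv_eq_right_inv ?_
    rw [hAe]
    calc U * diagonal ev * Uᵀ * (U * diagonal (fun i => (ev i)⁻¹) * Uᵀ)
        = U * diagonal ev * (Uᵀ * U) * diagonal (fun i => (ev i)⁻¹) * Uᵀ := by
          simp only [Matrix.mul_assoc]
      _ = U * (diagonal ev * diagonal (fun i => (ev i)⁻¹)) * Uᵀ := by
          rw [hU', Matrix.mul_one]; simp only [Matrix.mul_assoc]
      _ = 1 := by
          rw [diagonal_mul_diagonal]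
          simp [fun i => mul_inv_cancel₀ (hpos i).ne', hU]
  rw [hinv, qf_diag, ← hw, hdet, Real.sqrt_prod _ (fun i _ => (hpos i).le), Finset.prod_inv_distrib,
    Finset.mul_sum]

/-- The periodisation. -/
noncomputable def per (A : Matrix (Fin d) (Fin d) ℝ) (x : Fin d → ℝ) : ℂ :=
  ∑' n : Fin d → ℤ, gau A (fun i => x i + (n i : ℝ))

lemma summable_shift_bound {c : ℝ} (hc : 0 < c) (R : ℝ) :
    Summable fun n : Fin d → ℤ =>
      Real.exp (π * c * (d * R ^ 2)) * Real.exp (-(π * c / 2) * ∑ i, (n i : ℝ) ^ 2) :=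
  (summable_exp_sumSq (by positivity)).mul_left _

lemma per_continuous {A : Matrix (Fin d) (Fin d) ℝ} (hA : A.PosDef) : Continuous (per A) := by
  obtain ⟨c, hc, hlow⟩ := exists_lower hA
  refine continuous_iff_continuousAt.2 fun x₀ => ?_
  have hco : ContinuousOn (per A) {x | ∀ i, |x i| < ‖x₀‖ + 1} := by
    refine continuousOn_tsum (fun n => ((gau_continuous A).comp (by fun_prop)).continuousOn)
      (summable_shift_bound hc (‖x₀‖ + 1)) (fun n x hx => ?_)
    exact gau_shift_bound hc hlow _ x (fun i => (hx i).le) n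
  refine hco.continuousAt (IsOpen.mem_nhds ?_ ?_)
  · simp only [Set.ofPred_forall]
    exact isOpen_iInter_of_finite fun i => isOpen_lt (by fun_prop) continuous_const
  · intro i
    have := norm_le_pi_norm x₀ i
    rw [Real.norm_eq_abs] at this
    linarith

lemma per_add_int (A : Matrix (Fin d) (Fin d) ℝ) (x : Fin d → ℝ) (k : Fin d → ℤ) :
    per A (fun i => x i + (k i : ℝ)) = per A x := by
  unfold per
  rw [← (Equiv.addRight k).tsum_eq (fun n => gau A (fun i => x i + (n i : ℝ)))]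
  refine tsum_congr fun n => ?_
  congr 1
  ext i
  simp
  ring

/-- Projection to the torus. -/
def proj (x : Fin d → ℝ) : UnitAddTorus (Fin d) := fun i => (x i : UnitAddCircle)

lemma proj_openQuotient : IsOpenQuotientMap (proj (d := d)) :=
  IsOpenQuotientMap.piMap fun _ => QuotientAddGroup.isOpenQuotientMap_mk

/-- A section of `proj`. -/
noncomputable def sect (t : UnitAddTorus (Fin d)) : Fin d → ℝ :=
  fun i => (AddCircle.equivIoc 1 0 (t i)).1

lemma per_sect (A : Matrix (Fin d) (Fin d) ℝ) (x : Fin d → ℝ) :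
    per A (sect (proj x)) = per A x := by
  have h : ∀ i, ∃ k : ℤ, sect (proj x) i = x i + k := by
    intro i
    have h1 : ((sect (proj x) i : ℝ) : UnitAddCircle) = ((x i : ℝ) : UnitAddCircle) :=
      AddCircle.coe_equivIoc
    rw [QuotientAddGroup.eq, AddSubgroup.mem_zmultiples_iff] at h1
    obtain ⟨k, hk⟩ := h1
    refine ⟨-k, ?_⟩
    simp at hk
    push_cast
    linarith
  choose k hk using h
  rw [show sect (proj x) = fun i => x i + (k i : ℝ) from funext hk, per_add_int]

/-- The periodisation as a function on the torus. -/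
noncomputable def perT {A : Matrix (Fin d) (Fin d) ℝ} (hA : A.PosDef) :
    C(UnitAddTorus (Fin d), ℂ) :=
  ⟨fun t => per A (sect t), proj_openQuotient.isQuotientMap.continuous_iff.2 <| by
    simpa [Function.comp_def, per_sect] using per_continuous hA⟩

/-- The fundamental box. -/
def box (n : Fin d → ℤ) : Set (Fin d → ℝ) :=
  {x | ∀ i, x i ∈ Set.Ioc (n i : ℝ) ((n i : ℝ) + 1)}

lemma box_measurable (n : Fin d → ℤ) : MeasurableSet (box n) := by
  simp only [box, Set.ofPred_forall]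
  exact MeasurableSet.iInter fun i => measurableSet_Ioc.preimage (measurable_pi_apply i)

lemma box_union : ⋃ n : Fin d → ℤ, box n = Set.univ := by
  refine Set.eq_univ_of_forall fun x => Set.mem_iUnion.2 ⟨fun i => ⌈x i⌉ - 1, fun i => ?_⟩
  have h1 := Int.le_ceil (x i)
  have h2 := Int.ceil_lt_add_one (x i)
  simp only [Int.cast_sub, Int.cast_one, Set.mem_Ioc]
  constructor <;> linarith

lemma box_disjoint : Pairwise (Function.onFun Disjoint (box (d := d))) := by
  intro n n' hne
  refine Set.disjoint_left.2 fun x hx hx' => hne (funext fun i => ?_)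
  have h1 := hx i
  have h2 := hx' i
  simp only [Set.mem_Ioc] at h1 h2
  have h3 : n i < n' i + 1 := by exact_mod_cast lt_of_lt_of_le h1.1 h2.2
  have h4 : n' i < n i + 1 := by exact_mod_cast lt_of_lt_of_le h2.1 h1.2
  omega

lemma mFourierCoeff_perT {A : Matrix (Fin d) (Fin d) ℝ} (hA : A.PosDef) (m : Fin d → ℤ) :
    UnitAddTorus.mFourierCoeff (perT hA) m = ∫ x, chr m x * gau A x := by
  obtain ⟨c, hc, hlow⟩ := exists_lower hA
  rw [UnitAddTorus.mFourierCoeff_eq_integral _ m (fun i => ((0 : Fin d → ℤ) i : ℝ))]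
  change ∫ x in box 0, UnitAddTorus.mFourier (-m) (proj x) • perT hA (proj x) = _
  have hchar : ∀ x, UnitAddTorus.mFourier (-m) (proj x) = chr m x := by
    intro x
    simp only [UnitAddTorus.mFourier, ContinuousMap.coe_mk, proj, fourier_coe_apply, chr]
    rw [← Complex.exp_sum]
    congr 1
    refine Finset.sum_congr rfl fun i _ => ?_
    simp
  have hG : ∀ x, perT hA (proj x) = per A x := fun x => per_sect A x
  simp only [hchar, hG, smul_eq_mul]
  have hin : ∀ x ∈ box (0 : Fin d → ℤ), ∀ i, |x i| ≤ 1 := by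
    intro x hx i
    have := hx i
    simp at this
    rw [abs_le]; constructor <;> linarith
  have hvol : (volume : Measure (Fin d → ℝ)) (box 0) ≠ ⊤ := by
    refine ne_top_of_le_ne_top ?_ (measure_mono (fun x hx => ?_ : box 0 ⊆ Metric.closedBall 0 1))
    · exact (isCompact_closedBall _ _).measure_lt_top.ne
    · rw [mem_closedBall_zero_iff, pi_norm_le_iff_of_nonneg zero_le_one]
      exact hin x hx
  let F : (Fin d → ℤ) → (Fin d → ℝ) → ℂ := fun n x => chr m x * gau A (fun i => x i + (n i : ℝ))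
  have hFm : ∀ n, AEStronglyMeasurable (F n) (volume.restrict (box 0)) := fun n =>
    ((chr_continuous m).mul ((gau_continuous A).comp (by fun_prop))).aestronglyMeasurable
  have hFb : ∀ n, ∀ x ∈ box (0 : Fin d → ℤ), ‖F n x‖ ≤
      Real.exp (π * c * (d * 1 ^ 2)) * Real.exp (-(π * c / 2) * ∑ i, (n i : ℝ) ^ 2) := by
    intro n x hx
    simp only [F, norm_mul, norm_chr, one_mul]
    exact gau_shift_bound hc hlow 1 x (hin x hx) n
  have hFi : ∀ n, Integrable (F n) (volume.restrict (box 0)) := fun n =>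
    IntegrableOn.of_bound (lt_top_iff_ne_top.2 hvol) (hFm n) _
      (ae_restrict_of_forall_mem (box_measurable 0) (hFb n))
  have hsum : Summable fun n => ∫ x in box 0, ‖F n x‖ := by
    refine Summable.of_nonneg_of_le (fun n => integral_nonneg fun x => norm_nonneg _) (fun n => ?_)
      ((summable_shift_bound (d := d) hc 1).mul_right (volume.real (box (0 : Fin d → ℤ))))
    have h := setIntegral_mono_on (hFi n).norm (integrableOn_const hvol) (box_measurable 0) (hFb n)
    rwa [setIntegral_const, smul_eq_mul, mul_comm] at h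
  have h1 : ∫ x in box 0, chr m x * per A x = ∑' n, ∫ x in box 0, F n x := by
    rw [integral_tsum_of_summable_integral_norm hFi hsum]
    refine integral_congr_ae (Filter.Eventually.of_forall fun x => ?_)
    simp only [per, F, tsum_mul_left]
  have h2 : ∀ n : Fin d → ℤ, ∫ x in box 0, F n x = ∫ x in box n, chr m x * gau A x := by
    intro n
    have hmp := measurePreserving_add_right (volume : Measure (Fin d → ℝ)) (fun i => (n i : ℝ))
    rw [← hmp.setIntegral_preimage_emb (measurableEmbedding_addRight _)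
      (fun x => chr m x * gau A x) (box n)]
    have hpre : (fun x : Fin d → ℝ => x + fun i => (n i : ℝ)) ⁻¹' box n = box 0 := by
      ext x
      simp [box]
      constructor <;> intro h i <;> constructor <;> linarith [(h i).1, (h i).2]
    rw [hpre]
    refine integral_congr_ae (Filter.Eventually.of_forall fun x => ?_)
    show chr m x * _ = chr m (x + fun i => (n i : ℝ)) * gau A (x + fun i => (n i : ℝ))
    have : (x + fun i => (n i : ℝ)) = fun i => x i + (n i : ℝ) := rfl
    rw [this, chr_add_int]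
  rw [h1, tsum_congr h2]
  have h3 := hasSum_integral_iUnion (μ := (volume : Measure (Fin d → ℝ))) box_measurable
    box_disjoint (integrable_chr_gau hA m).integrableOn
  rw [h3.tsum_eq, box_union, setIntegral_univ]

lemma summable_th {A : Matrix (Fin d) (Fin d) ℝ} (hA : A.PosDef) :
    Summable fun n : Fin d → ℤ => Real.exp (-π * qf A (fun i => (n i : ℝ))) := by
  obtain ⟨c, hc, hlow⟩ := exists_lower hA
  refine Summable.of_nonneg_of_le (fun n => (Real.exp_pos _).le) (fun n => Real.exp_le_exp.2 ?_)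
    (summable_exp_sumSq (d := d) (mul_pos Real.pi_pos hc))
  have := mul_le_mul_of_nonneg_left (hlow fun i => (n i : ℝ)) Real.pi_pos.le
  linarith

/-- Poisson summation. -/
theorem th_eq {A : Matrix (Fin d) (Fin d) ℝ} (hA : A.PosDef) :
    th A = (√A.det)⁻¹ * th A⁻¹ := by
  have hcoef : UnitAddTorus.mFourierCoeff (perT hA) = fun m : Fin d → ℤ =>
      (((√A.det)⁻¹ * Real.exp (-π * qf A⁻¹ (fun i => (m i : ℝ))) : ℝ) : ℂ) := by
    funext m
    rw [mFourierCoeff_perT, integral_chr_gau hA]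
  have hsum : Summable (UnitAddTorus.mFourierCoeff (perT hA)) := by
    rw [hcoef]
    exact Complex.summable_ofReal.2 ((summable_th hA.inv).mul_left _)
  have h := UnitAddTorus.hasSum_mFourier_series_apply_of_summable hsum (proj (0 : Fin d → ℝ))
  have h0 : perT hA (proj (0 : Fin d → ℝ)) = ((th A : ℝ) : ℂ) := by
    show per A (sect (proj 0)) = _
    rw [per_sect, per, th, Complex.ofReal_tsum]
    simp [gau]
  have h1 : ∀ i : Fin d → ℤ, UnitAddTorus.mFourier i (proj (0 : Fin d → ℝ)) = 1 := fun i => by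
    simp [UnitAddTorus.mFourier, proj]
  rw [h0, hcoef] at h
  simp only [h1, smul_eq_mul, mul_one] at h
  have h2 := (Complex.hasSum_ofReal.1 h).tsum_eq
  rw [← h2, th, tsum_mul_left]

end Cfsg.Agent.Theta
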