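import Cfsg.Agent.Lib.Theta.Poisson

set_option autoImplicit false

/-!
The theta series of an even unimodular lattice of rank 24 as a modular form of weight 12,
and its first coefficients when the lattice has no roots.
-/

open Matrix UpperHalfPlane ModularForm EisensteinSeries ArithmeticFunction MatrixGroups Filter
open scoped Real Manifold Topology

namespace Cfsg.Agent.Theta

variable {d : ℕ} {B : Matrix (Fin d) (Fin d) ℤ}

/-- The integral quadratic form. -/
def qz (B : Matrix (Fin d) (Fin d) ℤ) (n : Fin d → ℤ) : ℤ := n ⬝ᵥ (B *ᵥ n)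

/-- The real matrix. -/
noncomputable abbrev rmat (B : Matrix (Fin d) (Fin d) ℤ) : Matrix (Fin d) (Fin d) ℝ :=
  B.map (Int.castRingHom ℝ)

lemma cast_mulVec (B : Matrix (Fin d) (Fin d) ℤ) (n : Fin d → ℤ) :
    (fun i => (((B *ᵥ n) i : ℤ) : ℝ)) = rmat B *ᵥ (fun i => (n i : ℝ)) := by
  funext i
  simp [Matrix.mulVec, dotProduct]

lemma qf_cast (B : Matrix (Fin d) (Fin d) ℤ) (n : Fin d → ℤ) :
    qf (rmat B) (fun i => (n i : ℝ)) = (qz B n : ℝ) := by
  rw [qf, ← cast_mulVec]
  simp [qz, dotProduct]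

lemma det_rmat (B : Matrix (Fin d) (Fin d) ℤ) : (rmat B).det = ((B.det : ℤ) : ℝ) := by
  exact ((Int.castRingHom ℝ).map_det B).symm

lemma posDef_rmat (hsymm : B.IsSymm) (hpos : ∀ n, 0 ≤ qz B n) (hdet : B.det = 1) :
    (rmat B).PosDef := by
  have hH : (rmat B).IsHermitian := by
    ext i j
    simp [Matrix.map_apply, hsymm.apply i j]
  have hsemi : ∀ x : Fin d → ℝ, 0 ≤ qf (rmat B) x := by
    have hd : DenseRange (fun (r : Fin d → ℚ) (i : Fin d) => (r i : ℝ)) :=
      DenseRange.piMap fun _ => Rat.denseRange_cast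
    refine fun x => hd.induction_on x (isClosed_le continuous_const (qf_continuous _)) fun r => ?_
    obtain ⟨N, hN0, hN⟩ : ∃ N : ℕ, 0 < N ∧ ∀ i, ∃ z : ℤ, (r i : ℝ) * (N : ℝ) = (z : ℝ) := by
      refine ⟨∏ i, (r i).den, Finset.prod_pos fun i _ => (r i).den_pos, fun i => ?_⟩
      obtain ⟨k, hk⟩ := Finset.dvd_prod_of_mem (fun i => (r i).den) (Finset.mem_univ i)
      refine ⟨(r i).num * k, ?_⟩
      rw [hk]
      have : (r i : ℝ) * ((r i).den : ℝ) = ((r i).num : ℝ) := by
        exact_mod_cast Rat.mul_den_eq_num (r i)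
      push_cast
      rw [← mul_assoc, this]
    choose z hz using hN
    have h1 : ((N : ℝ)) ^ 2 * qf (rmat B) (fun i => (r i : ℝ)) = (qz B z : ℝ) := by
      rw [← qf_cast]
      have : (fun i => (z i : ℝ)) = (N : ℝ) • fun i => (r i : ℝ) := by
        funext i; simp [← hz i, mul_comm]
      rw [this, qf, qf, Matrix.mulVec_smul, smul_dotProduct, dotProduct_smul]
      simp [smul_eq_mul]
      ring
    have h2 : (0 : ℝ) ≤ qz B z := by exact_mod_cast hpos z
    have hNp : (0 : ℝ) < (N : ℝ) ^ 2 := by positivity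
    nlinarith
  have hps : (rmat B).PosSemidef := Matrix.PosSemidef.of_dotProduct_mulVec_nonneg hH fun x => by
    simpa [qf] using hsemi x
  rw [hps.posDef_iff_det_ne_zero, det_rmat, hdet]
  norm_num

/-- The complex theta series. -/
noncomputable def cth (B : Matrix (Fin d) (Fin d) ℤ) (z : ℂ) : ℂ :=
  ∑' n : Fin d → ℤ, Complex.exp (π * Complex.I * z * (qz B n : ℂ))

lemma norm_term (B : Matrix (Fin d) (Fin d) ℤ) (z : ℂ) (n : Fin d → ℤ) :
    ‖Complex.exp (π * Complex.I * z * (qz B n : ℂ))‖ = Real.exp (-π * z.im * (qz B n : ℝ)) := by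
  rw [Complex.norm_exp]
  simp

lemma summable_real (hB : (rmat B).PosDef) {δ : ℝ} (hδ : 0 < δ) :
    Summable fun n : Fin d → ℤ => Real.exp (-π * δ * (qz B n : ℝ)) := by
  refine (summable_th (hB.smul hδ)).congr fun n => ?_
  rw [qf_smul, qf_cast, mul_assoc]

lemma qz_nonneg (hB : (rmat B).PosDef) (n : Fin d → ℤ) : 0 ≤ qz B n := by
  obtain ⟨c, hc, hlow⟩ := exists_lower hB
  have h := hlow fun i => (n i : ℝ)
  rw [qf_cast] at h
  have : (0 : ℝ) ≤ qz B n := le_trans (by positivity) h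
  exact_mod_cast this

lemma norm_term_le (hB : (rmat B).PosDef) {δ : ℝ} {z : ℂ} (hz : δ ≤ z.im) (n : Fin d → ℤ) :
    ‖Complex.exp (π * Complex.I * z * (qz B n : ℂ))‖ ≤ Real.exp (-π * δ * (qz B n : ℝ)) := by
  rw [norm_term]
  have : (0 : ℝ) ≤ qz B n := by exact_mod_cast qz_nonneg hB n
  refine Real.exp_le_exp.2 ?_
  nlinarith [mul_nonneg (mul_nonneg Real.pi_pos.le (sub_nonneg.2 hz)) this]

lemma cth_diffOn (hB : (rmat B).PosDef) :
    DifferentiableOn ℂ (cth B) {z : ℂ | 0 < z.im} := by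
  intro z hz
  have hδ : 0 < z.im / 2 := by have : 0 < z.im := hz; linarith
  have h : DifferentiableOn ℂ (cth B) {w : ℂ | z.im / 2 < w.im} :=
    Complex.differentiableOn_tsum_of_summable_norm (summable_real hB hδ)
      (fun n => (by fun_prop : Differentiable ℂ
        fun w : ℂ => Complex.exp (π * Complex.I * w * (qz B n : ℂ))).differentiableOn)
      (isOpen_lt continuous_const Complex.continuous_im)
      (fun n w hw => norm_term_le hB (le_of_lt hw) n)
  have hzm : z ∈ {w : ℂ | z.im / 2 < w.im} := by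
    have : 0 < z.im := hz
    show z.im / 2 < z.im
    linarith
  exact (h.differentiableAt
    ((isOpen_lt continuous_const Complex.continuous_im).mem_nhds hzm)).differentiableWithinAt

lemma cth_ofReal (B : Matrix (Fin d) (Fin d) ℤ) (t : ℝ) :
    cth B (Complex.I * t) = ((th (t • rmat B) : ℝ) : ℂ) := by
  rw [cth, th, Complex.ofReal_tsum]
  refine tsum_congr fun n => ?_
  rw [qf_smul, qf_cast, Complex.ofReal_exp]
  congr 1
  push_cast
  linear_combination (π * (t : ℂ) * (qz B n : ℂ)) * Complex.I_sq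

lemma th_inv_eq (hsymm : B.IsSymm) (hdet : B.det = 1) {t : ℝ} (ht : t ≠ 0) :
    th (t • rmat B)⁻¹ = th (t⁻¹ • rmat B) := by
  have hu : IsUnit (rmat B).det := by rw [det_rmat, hdet]; simp
  have hinv : (t • rmat B)⁻¹ = t⁻¹ • (rmat B)⁻¹ := by
    refine Matrix.inv_eq_right_inv ?_
    rw [Matrix.smul_mul, Matrix.mul_smul, smul_smul, mul_inv_cancel₀ ht, Matrix.mul_nonsing_inv _ hu,
      one_smul]
  have huz : IsUnit B.det := by rw [hdet]; exact isUnit_one
  let e : (Fin d → ℤ) ≃ (Fin d → ℤ) :=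
    { toFun := fun n => B *ᵥ n
      invFun := fun n => B⁻¹ *ᵥ n
      left_inv := fun n => by simp [Matrix.mulVec_mulVec, Matrix.nonsing_inv_mul _ huz]
      right_inv := fun n => by simp [Matrix.mulVec_mulVec, Matrix.mul_nonsing_inv _ huz] }
  rw [hinv, th, th, ← e.tsum_eq]
  refine tsum_congr fun n => ?_
  rw [qf_smul, qf_smul]
  congr 3
  show qf (rmat B)⁻¹ (fun i => (((B *ᵥ n) i : ℤ) : ℝ)) = _
  rw [cast_mulVec, qf, qf, Matrix.mulVec_mulVec, Matrix.nonsing_inv_mul _ hu, Matrix.one_mulVec,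
    dotProduct_comm]

end Cfsg.Agent.Theta

namespace Cfsg.Agent.Theta

variable {B : Matrix (Fin 24) (Fin 24) ℤ}

lemma th_functional (hsymm : B.IsSymm) (hB : (rmat B).PosDef) (hdet : B.det = 1) {t : ℝ}
    (ht : 0 < t) : th (t⁻¹ • rmat B) = t ^ 12 * th (t • rmat B) := by
  have h := th_eq (hB.smul ht)
  rw [th_inv_eq hsymm hdet ht.ne', det_smul, det_rmat, hdet] at h
  have hs : √(t ^ Fintype.card (Fin 24) * ((1 : ℤ) : ℝ)) = t ^ 12 := by
    rw [Fintype.card_fin, Int.cast_one, mul_one, show t ^ 24 = (t ^ 12) ^ 2 by ring,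
      Real.sqrt_sq (by positivity)]
  rw [hs] at h
  rw [h]
  field_simp

lemma cth_S (hsymm : B.IsSymm) (hB : (rmat B).PosDef) (hdet : B.det = 1) {z : ℂ} (hz : 0 < z.im) :
    cth B (-z⁻¹) = z ^ 12 * cth B z := by
  have hopen : IsOpen {w : ℂ | 0 < w.im} := isOpen_lt continuous_const Complex.continuous_im
  have hne : ∀ w ∈ {w : ℂ | 0 < w.im}, w ≠ 0 := by
    intro w hw h; simp [h] at hw
  have hmaps : ∀ w ∈ {w : ℂ | 0 < w.im}, -w⁻¹ ∈ {w : ℂ | 0 < w.im} := by
    intro w hw
    have : 0 < w.im := hw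
    show 0 < (-w⁻¹).im
    rw [Complex.neg_im, Complex.inv_im, neg_div, neg_neg]
    exact div_pos this (Complex.normSq_pos.2 (hne w hw))
  let g : ℂ → ℂ := fun w => cth B (-w⁻¹) - w ^ 12 * cth B w
  have hg : DifferentiableOn ℂ g {w : ℂ | 0 < w.im} := by
    refine DifferentiableOn.sub ((cth_diffOn hB).comp ?_ hmaps)
      ((differentiable_id.pow 12).differentiableOn.mul (cth_diffOn hB))
    exact (differentiableOn_inv.mono fun w hw => hne w hw).neg
  have hzero : ∀ t : ℝ, 0 < t → g (Complex.I * t) = 0 := by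
    intro t ht
    have h1 : -(Complex.I * t)⁻¹ = Complex.I * ((t⁻¹ : ℝ) : ℂ) := by
      push_cast; rw [mul_inv, Complex.inv_I]; ring
    simp only [g, h1, cth_ofReal, th_functional hsymm hB hdet ht]
    push_cast
    rw [mul_pow, show Complex.I ^ 12 = (Complex.I ^ 2) ^ 6 by ring, Complex.I_sq]
    ring
  have han := hg.analyticOnNhd hopen
  have hI : Complex.I ∈ {w : ℂ | 0 < w.im} := by simp
  have hfreq : ∃ᶠ w in 𝓝[≠] Complex.I, g w = 0 := by
    have htend : Tendsto (fun t : ℝ => Complex.I * (t : ℂ)) (𝓝[≠] (1 : ℝ)) (𝓝[≠] Complex.I) := by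
      refine tendsto_nhdsWithin_of_tendsto_nhds_of_eventually_within _ ?_ ?_
      · have : Continuous fun t : ℝ => Complex.I * (t : ℂ) := by fun_prop
        simpa using (this.tendsto 1).mono_left nhdsWithin_le_nhds
      · filter_upwards [self_mem_nhdsWithin] with t ht
        intro h
        exact ht (by simpa using congrArg Complex.im h)
    refine htend.frequently (Eventually.frequently ?_)
    filter_upwards [mem_nhdsWithin_of_mem_nhds (Ioi_mem_nhds zero_lt_one)] with t ht
    exact hzero t ht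
  have h := han.eqOn_zero_of_preconnected_of_frequently_eq_zero
    (convex_halfSpace_im_gt 0).isPreconnected hI hfreq hz
  simpa [g, sub_eq_zero] using h

lemma cth_T (hB : (rmat B).PosDef) (heven : ∀ n, (2 : ℤ) ∣ qz B n) (z : ℂ) :
    cth B (z + 1) = cth B z := by
  refine tsum_congr fun n => ?_
  obtain ⟨k, hk⟩ := heven n
  rw [Complex.exp_eq_exp_iff_exists_int]
  exact ⟨k, by rw [hk]; push_cast; ring⟩

/-- The theta function on the upper half plane. -/
noncomputable def hth (B : Matrix (Fin 24) (Fin 24) ℤ) : ℍ → ℂ := fun z => cth B (z : ℂ)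

/-- The hypotheses on the lattice. -/
structure EvenUni (B : Matrix (Fin 24) (Fin 24) ℤ) : Prop where
  symm : B.IsSymm
  pd : (rmat B).PosDef
  even : ∀ n, (2 : ℤ) ∣ qz B n
  det : B.det = 1

set_option backward.isDefEq.respectTransparency false in
lemma hth_T (h : EvenUni B) : (hth B ∣[(12 : ℤ)] ModularGroup.T) = hth B := by
  ext z
  rw [SL_slash_apply, modular_T_smul, show denom ModularGroup.T (z : ℂ) = 1 by
    simp [ModularGroup.denom_apply, ModularGroup.T], _root_.one_zpow, mul_one]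
  simp [hth]
  rw [add_comm, cth_T h.pd h.even]

lemma hth_S (h : EvenUni B) : (hth B ∣[(12 : ℤ)] ModularGroup.S) = hth B := by
  ext z
  suffices cth B (-(↑z)⁻¹) * ((z : ℂ) ^ 12)⁻¹ = cth B z by
    rw [SL_slash_apply, UpperHalfPlane.modular_S_smul, ModularGroup.denom_S, _root_.zpow_neg]
    simpa [hth] using this
  rw [cth_S h.symm h.pd h.det z.2]
  field_simp [z.ne_zero]

/-- The theta modular form. -/
noncomputable def form (h : EvenUni B) : ModularForm 𝒮ℒ 12 where
  toFun := hth B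
  slash_action_eq' A hA := by
    obtain ⟨A, rfl⟩ := hA
    exact SlashInvariantForm.slash_action_generators_SL2Z (hth_S h) (hth_T h) A
  holo' := by
    rw [UpperHalfPlane.mdifferentiable_iff]
    refine (cth_diffOn h.pd).congr fun z hz => ?_
    simp [hth, ofComplex_apply_of_im_pos hz]
  bdd_at_cusps' {c} hc := by
    rw [Subgroup.IsArithmetic.isCusp_iff_isCusp_SL2Z] at hc
    rw [OnePoint.isBoundedAt_iff_forall_SL2Z hc]
    intro γ _
    rw [SlashInvariantForm.slash_action_generators_SL2Z (hth_S h) (hth_T h)]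
    rw [UpperHalfPlane.isBoundedAtImInfty_iff]
    refine ⟨∑' n : Fin 24 → ℤ, Real.exp (-π * 1 * (qz B n : ℝ)), 1, fun z hz => ?_⟩
    exact tsum_of_norm_bounded (summable_real h.pd one_pos).hasSum
      (fun n => norm_term_le h.pd hz n)

/-- The vectors of norm `2m`. -/
def shellSet (B : Matrix (Fin 24) (Fin 24) ℤ) (m : ℕ) : Set (Fin 24 → ℤ) :=
  {n | qz B n = 2 * (m : ℤ)}

lemma shellSet_finite (h : EvenUni B) (m : ℕ) : (shellSet B m).Finite := by
  have ht := (summable_real h.pd one_pos).tendsto_cofinite_zero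
  have hev := ht.eventually (gt_mem_nhds (Real.exp_pos (-π * 1 * (((2 * m : ℕ) : ℤ) : ℝ))))
  rw [Filter.eventually_cofinite] at hev
  refine hev.subset fun n hn => ?_
  have hn' : qz B n = 2 * (m : ℤ) := hn
  simp [hn']

lemma hasSum_shell (h : EvenUni B) (τ : ℍ) :
    HasSum (fun m => ((shellSet B m).ncard : ℂ) • Function.Periodic.qParam 1 τ ^ m) (form h τ) := by
  set f : (Fin 24 → ℤ) → ℂ := fun n => Complex.exp (π * Complex.I * (τ : ℂ) * (qz B n : ℂ)) with hf
  have hs : Summable f := Summable.of_norm_bounded (summable_real h.pd τ.im_pos)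
    (fun n => norm_term_le h.pd le_rfl n)
  let lev : (Fin 24 → ℤ) → ℕ := fun n => (qz B n / 2).toNat
  have hlev : ∀ n m, lev n = m ↔ n ∈ shellSet B m := by
    intro n m
    have h1 := qz_nonneg h.pd n
    obtain ⟨k, hk⟩ := h.even n
    show (qz B n / 2).toNat = m ↔ qz B n = 2 * (m : ℤ)
    omega
  have hfin : ∀ m, HasSum (fun n : {n // lev n = m} => f n.1)
      (((shellSet B m).ncard : ℂ) • Function.Periodic.qParam 1 τ ^ m) := by
    intro m
    have he : {n | lev n = m} = shellSet B m := Set.ext fun n => hlev n m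
    have : Finite {n // lev n = m} := by
      have := (shellSet_finite h m); rw [← he] at this; exact this.to_subtype
    have := Fintype.ofFinite {n // lev n = m}
    have hc : ∀ n : {n // lev n = m}, f n.1 = Function.Periodic.qParam 1 τ ^ m := by
      intro n
      have hn : qz B n.1 = 2 * (m : ℤ) := (hlev _ _).1 n.2
      simp only [hf, hn, Function.Periodic.qParam, ← Complex.exp_nat_mul]
      congr 1
      push_cast
      ring
    have h2 := hasSum_fintype (fun n : {n // lev n = m} => f n.1)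
    simp only [hc, Finset.sum_const, Finset.card_univ] at h2
    rw [← he, Set.ncard_def] at *
    simp only [hc]
    convert h2 using 1
    rw [smul_eq_mul, nsmul_eq_mul, ← Nat.card_eq_fintype_card, ← Set.ncard_def,
      ← Nat.card_coe_set_eq]
    rfl
  exact (((Equiv.sigmaFiberEquiv lev).hasSum_iff).2 hs.hasSum).sigma hfin

lemma coeff_form (h : EvenUni B) (m : ℕ) :
    (qExpansion 1 (form h)).coeff m = ((shellSet B m).ncard : ℂ) :=
  (ModularFormClass.qExpansion_coeff_unique one_pos one_mem_strictPeriods_SL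
    (hasSum_shell h) m).symm

lemma shell_zero (h : EvenUni B) : shellSet B 0 = {0} := by
  ext n
  refine ⟨fun hn => ?_, fun hn => ?_⟩
  · by_contra hne
    obtain ⟨c, hc, hlow⟩ := exists_lower h.pd
    have h1 := hlow fun i => (n i : ℝ)
    rw [qf_cast, show qz B n = 0 by simpa [shellSet] using hn] at h1
    obtain ⟨i, hi⟩ : ∃ i, n i ≠ 0 := Function.ne_iff.1 hne
    have h2 : (0 : ℝ) < ∑ j, (n j : ℝ) ^ 2 :=
      Finset.sum_pos' (fun j _ => sq_nonneg _)
        ⟨i, Finset.mem_univ i, pow_two_pos_of_ne_zero (Int.cast_ne_zero.2 hi)⟩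
    norm_num at h1
    nlinarith
  · simp only [Set.mem_singleton_iff] at hn
    simp [shellSet, qz, hn]

lemma E₄_coeffs : (qExpansion 1 E₄).coeff 0 = 1 ∧ (qExpansion 1 E₄).coeff 1 = 240 ∧
    (qExpansion 1 E₄).coeff 2 = 2160 ∧ (qExpansion 1 E₄).coeff 3 = 6720 ∧
    (qExpansion 1 E₄).coeff 4 = 17520 := by
  refine ⟨?_, ?_, ?_, ?_, ?_⟩ <;>
    simp only [E_qExpansion_coeff _ ⟨2, rfl⟩, show bernoulli 4 = -1 / 30 by decide +kernel,
      Nat.reduceSub] <;>
    norm_num [show ArithmeticFunction.sigma 3 2 = 9 by decide,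
      show ArithmeticFunction.sigma 3 3 = 28 by decide,
      show ArithmeticFunction.sigma 3 4 = 73 by decide]

lemma E₆_coeffs : (qExpansion 1 E₆).coeff 0 = 1 ∧ (qExpansion 1 E₆).coeff 1 = -504 ∧
    (qExpansion 1 E₆).coeff 2 = -16632 ∧ (qExpansion 1 E₆).coeff 3 = -122976 ∧
    (qExpansion 1 E₆).coeff 4 = -532728 := by
  refine ⟨?_, ?_, ?_, ?_, ?_⟩ <;>
    simp only [E_qExpansion_coeff _ ⟨3, rfl⟩, show bernoulli 6 = 1 / 42 by decide +kernel,
      Nat.reduceSub] <;>
    norm_num [show ArithmeticFunction.sigma 5 2 = 33 by decide,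
      show ArithmeticFunction.sigma 5 3 = 244 by decide,
      show ArithmeticFunction.sigma 5 4 = 1057 by decide]

theorem counts (h : EvenUni B) (hroot : ∀ n, qz B n ≠ 2) :
    (shellSet B 2).ncard = 196560 ∧ (shellSet B 3).ncard = 16773120 ∧
      (shellSet B 4).ncard = 398034000 := by
  have h1 : (shellSet B 1).ncard = 0 := by
    have : shellSet B 1 = ∅ := Set.eq_empty_iff_forall_notMem.2 fun n hn =>
      hroot n (by simpa [shellSet] using hn)
    simp [this]
  have h0 : (shellSet B 0).ncard = 1 := by simp [shell_zero h]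
  let a : ModularForm 𝒮ℒ 12 := ModularForm.mcast (by decide) (E₄.pow 3)
  let b : ModularForm 𝒮ℒ 12 := ModularForm.mcast (by decide) (E₆.pow 2)
  let g : ModularForm 𝒮ℒ 12 := form h - (7 / 12 : ℂ) • a - (5 / 12 : ℂ) • b
  have hq : qExpansion 1 g = qExpansion 1 (form h)
      - (7 / 12 : ℂ) • qExpansion 1 E₄ ^ 3 - (5 / 12 : ℂ) • qExpansion 1 E₆ ^ 2 := by
    have e1 : qExpansion 1 g = qExpansion 1 (form h - (7 / 12 : ℂ) • a : ModularForm 𝒮ℒ 12)
        - qExpansion 1 ((5 / 12 : ℂ) • b : ModularForm 𝒮ℒ 12) := by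
      rw [← ModularForm.qExpansion_sub (Γ := 𝒮ℒ) one_pos one_mem_strictPeriods_SL
        (form h - (7 / 12 : ℂ) • a : ModularForm 𝒮ℒ 12) ((5 / 12 : ℂ) • b : ModularForm 𝒮ℒ 12)]
      rfl
    have e2 : qExpansion 1 (form h - (7 / 12 : ℂ) • a : ModularForm 𝒮ℒ 12) = qExpansion 1 (form h)
        - qExpansion 1 ((7 / 12 : ℂ) • a : ModularForm 𝒮ℒ 12) := by
      rw [← ModularForm.qExpansion_sub (Γ := 𝒮ℒ) one_pos one_mem_strictPeriods_SL
        (form h) ((7 / 12 : ℂ) • a : ModularForm 𝒮ℒ 12)]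
      rfl
    rw [e1, e2, FunLike.coe_smul, ModularForm.qExpansion_smul one_pos one_mem_strictPeriods_SL,
      FunLike.coe_smul, ModularForm.qExpansion_smul one_pos one_mem_strictPeriods_SL]
    simp only [a, b, coe_mcast, ModularForm.qExpansion_pow one_pos one_mem_strictPeriods_SL]
  obtain ⟨a0, a1, a2, a3, a4⟩ := E₄_coeffs
  obtain ⟨b0, b1, b2, b3, b4⟩ := E₆_coeffs
  have hg : g = 0 := by
    apply sturm_bound_levelOne
    refine lt_of_lt_of_le (show ((((12 : ℤ).toNat / 12 : ℕ)) : ℕ∞) < (2 : ℕ) by decide)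
      (PowerSeries.nat_le_order _ _ fun i hi => ?_)
    interval_cases i
    · simp [hq, coeff_form, h0, a0, b0, pow_succ, PowerSeries.coeff_mul,
        -PowerSeries.coeff_zero_eq_constantCoeff]
      norm_num
    · simp [hq, coeff_form, h1, a0, b0, a1, b1, pow_succ, PowerSeries.coeff_mul,
        Finset.Nat.antidiagonal_succ, -PowerSeries.coeff_zero_eq_constantCoeff]
      norm_num
  have hq0 : qExpansion 1 g = 0 := by rw [hg]; exact qExpansion_zero 1
  rw [hq] at hq0
  refine ⟨?_, ?_, ?_⟩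
  · have h := congrArg (PowerSeries.coeff 2) hq0
    simp [coeff_form, a0, a1, a2, b0, b1, b2, pow_succ, PowerSeries.coeff_mul,
      Finset.Nat.antidiagonal_succ, -PowerSeries.coeff_zero_eq_constantCoeff] at h
    have : ((shellSet B 2).ncard : ℂ) = ((196560 : ℕ) : ℂ) := by
      push_cast; linear_combination h
    exact_mod_cast this
  · have h := congrArg (PowerSeries.coeff 3) hq0
    simp [coeff_form, a0, a1, a2, a3, b0, b1, b2, b3, pow_succ, PowerSeries.coeff_mul,
      Finset.Nat.antidiagonal_succ, -PowerSeries.coeff_zero_eq_constantCoeff] at h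
    have : ((shellSet B 3).ncard : ℂ) = ((16773120 : ℕ) : ℂ) := by
      push_cast; linear_combination h
    exact_mod_cast this
  · have h := congrArg (PowerSeries.coeff 4) hq0
    simp [coeff_form, a0, a1, a2, a3, a4, b0, b1, b2, b3, b4, pow_succ, PowerSeries.coeff_mul,
      Finset.Nat.antidiagonal_succ, -PowerSeries.coeff_zero_eq_constantCoeff] at h
    have : ((shellSet B 4).ncard : ℂ) = ((398034000 : ℕ) : ℂ) := by
      push_cast; linear_combination h
    exact_mod_cast this

end Cfsg.Agent.Theta
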